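import Groth.Agent.Lib.Helper28.ValExt.IntegralNhd
import Groth.Agent.Lib.Helper28.GlueOpens

/-! # Extending a morphism to a proper scheme across a point whose local ring is a valuation
ring (helper28, S9701) -/

set_option autoImplicit false
universe u
open CategoryTheory CategoryTheory.Limits AlgebraicGeometry TopologicalSpace

namespace Groth.Agent.Lib.Helper28.ValExt

theorem main {X Y S : Scheme.{u}} (p : X ⟶ S) (q : Y ⟶ S)
    [IsProper q] (x : X) (U : X.Opens) (f : (U : Scheme.{u}) ⟶ Y) (hf : f ≫ q = U.ι ≫ p)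
    (hx : x ∈ closure (U : Set ↥X))
    (hX : (IsReduced X ∧ (irreducibleComponents ↥X).Finite) ∨ IsNoetherian X)
    (hdom : IsDomain (X.presheaf.stalk x)) (hval : @ValuationRing (X.presheaf.stalk x) _ hdom) :
    ∃ (U' : X.Opens) (hUU' : U ≤ U'), x ∈ U' ∧
      ∃ f' : (U' : Scheme.{u}) ⟶ Y, f' ≫ q = U'.ι ≫ p ∧ X.homOfLE hUU' ≫ f' = f := by
  haveI := hdom
  haveI := hval
  obtain ⟨V, hxV, hVint⟩ := exists_integral_nhd x hX hdom
  haveI := hVint
  -- the generic point of the local ring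
  let b : PrimeSpectrum (X.presheaf.stalk x) := ⟨⊥, Ideal.isPrime_bot⟩
  have hη'x : X.fromSpecStalk x b ⤳ x := by
    have h1 : X.fromSpecStalk x b ∈ Set.range (X.fromSpecStalk x) := ⟨_, rfl⟩
    rwa [Scheme.range_fromSpecStalk] at h1
  have hη'V : X.fromSpecStalk x b ∈ V := hη'x.mem_open V.isOpen hxV
  have hgv : ∀ v (hv : v ∈ V), V.ι (genericPoint (V : Scheme.{u})) ⤳ v := by
    intro v hv
    have h1 : genericPoint (V : Scheme.{u}) ⤳ (⟨v, hv⟩ : (V : Scheme.{u})) :=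
      (genericPoint_spec (V : Scheme.{u})).specializes (Set.mem_univ _)
    exact h1.map V.ι.continuous
  have hη'g : X.fromSpecStalk x b ⤳ V.ι (genericPoint (V : Scheme.{u})) := by
    have h1 : V.ι (genericPoint (V : Scheme.{u})) ∈ Set.range (X.fromSpecStalk x) := by
      rw [Scheme.range_fromSpecStalk]; exact hgv x hxV
    obtain ⟨r, hr⟩ := h1
    rw [← hr]
    have hbr : b ⤳ r := by
      rw [← PrimeSpectrum.le_iff_specializes]
      exact bot_le
    exact hbr.map (X.fromSpecStalk x).continuous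
  have hη'v : ∀ v (hv : v ∈ V), X.fromSpecStalk x b ⤳ v :=
    fun v hv => hη'g.trans (hgv v hv)
  obtain ⟨u, huV, huU⟩ : ∃ u, u ∈ V ∧ u ∈ U := by
    obtain ⟨u, hu1, hu2⟩ := mem_closure_iff.mp hx V V.isOpen hxV
    exact ⟨u, hu1, hu2⟩
  have hη'U : X.fromSpecStalk x b ∈ U := (hη'v u huV).mem_open U.isOpen huU
  -- the map from the spectrum of the fraction field
  let j : Spec (CommRingCat.of (FractionRing (X.presheaf.stalk x))) ⟶ X :=
    Spec.map (CommRingCat.ofHom (algebraMap (X.presheaf.stalk x)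
      (FractionRing (X.presheaf.stalk x)))) ≫ X.fromSpecStalk x
  have hj : ∀ z, j z = X.fromSpecStalk x b := by
    intro z
    change X.fromSpecStalk x (Spec.map (CommRingCat.ofHom (algebraMap (X.presheaf.stalk x)
      (FractionRing (X.presheaf.stalk x)))) z) = _
    congr 1
    apply PrimeSpectrum.ext
    change Ideal.comap (algebraMap (X.presheaf.stalk x) (FractionRing (X.presheaf.stalk x)))
      (show PrimeSpectrum (FractionRing (X.presheaf.stalk x)) from z).asIdeal = ⊥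
    have h0 : (show PrimeSpectrum (FractionRing (X.presheaf.stalk x)) from z).asIdeal = ⊥ :=
      ((Ideal.eq_bot_or_top _).resolve_right
        (show PrimeSpectrum (FractionRing (X.presheaf.stalk x)) from z).isPrime.ne_top)
    rw [h0]
    exact (RingHom.injective_iff_ker_eq_bot _).mp (IsFractionRing.injective _ _)
  have hjr : ∀ O : X.Opens, X.fromSpecStalk x b ∈ O → Set.range j ⊆ Set.range O.ι := by
    intro O hO y hy
    obtain ⟨z, rfl⟩ := hy
    rw [Scheme.Opens.range_ι]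
    change j z ∈ O
    rw [hj]
    exact hO
  have hjO : ∀ (O : X.Opens) (hO : X.fromSpecStalk x b ∈ O),
      IsOpenImmersion.lift O.ι j (hjr O hO) ≫ O.ι = j :=
    fun O hO => IsOpenImmersion.lift_fac _ _ _
  have hjle : ∀ (O O' : X.Opens) (hO : X.fromSpecStalk x b ∈ O)
      (hO' : X.fromSpecStalk x b ∈ O') (hle : O ≤ O'),
      IsOpenImmersion.lift O.ι j (hjr O hO) ≫ X.homOfLE hle =
        IsOpenImmersion.lift O'.ι j (hjr O' hO') := by
    intro O O' hO hO' hle
    rw [← cancel_mono O'.ι, Category.assoc, Scheme.homOfLE_ι, hjO O hO, hjO O' hO']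
  -- the valuative criterion
  have hE : ValuativeCriterion.Existence q := by
    have h1 : (@UniversallyClosed) q := inferInstance
    rw [UniversallyClosed.eq_valuativeCriterion] at h1
    exact h1.1
  let sq : ValuativeCommSq q :=
    { R := X.presheaf.stalk x
      domain := hdom
      valuationRing := hval
      K := FractionRing (X.presheaf.stalk x)
      i₁ := IsOpenImmersion.lift U.ι j (hjr U hη'U) ≫ f
      i₂ := X.fromSpecStalk x ≫ p
      commSq := ⟨by
        rw [Category.assoc, hf, ← Category.assoc, hjO U hη'U]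
        rfl⟩ }
  obtain ⟨⟨φ, hφ1, hφ2⟩⟩ := (hE sq).exists_lift
  -- spreading out
  haveI : X.IsGermInjectiveAt x :=
    inferInstanceAs (X.IsGermInjectiveAt (V.ι (⟨x, hxV⟩ : (V : Scheme.{u}))))
  have hφ1' : Spec.map (CommRingCat.ofHom (algebraMap (X.presheaf.stalk x)
      (FractionRing (X.presheaf.stalk x)))) ≫ (show Spec (X.presheaf.stalk x) ⟶ Y from φ) =
      IsOpenImmersion.lift U.ι j (hjr U hη'U) ≫ f := hφ1
  have hφ2' : (show Spec (X.presheaf.stalk x) ⟶ Y from φ) ≫ q = X.fromSpecStalk x ≫ p := hφ2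
  obtain ⟨W, hxW, f₁, hφf₁, hf₁⟩ := spread_out_of_isGermInjective' p q (x := x)
    (show Spec (X.presheaf.stalk x) ⟶ Y from φ) hφ2'
  have hη'W : X.fromSpecStalk x b ∈ W := hη'x.mem_open W.isOpen hxW
  have hf₂ : (X.homOfLE (inf_le_right : V ⊓ W ≤ W) ≫ f₁) ≫ q = (V ⊓ W).ι ≫ p := by
    rw [Category.assoc, hf₁, ← Category.assoc, Scheme.homOfLE_ι]
  -- agreement on the overlap
  have hagree : X.homOfLE (inf_le_left : U ⊓ (V ⊓ W) ≤ U) ≫ f =
      X.homOfLE (inf_le_right : U ⊓ (V ⊓ W) ≤ V ⊓ W) ≫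
        (X.homOfLE (inf_le_right : V ⊓ W ≤ W) ≫ f₁) := by
    have hOV : U ⊓ (V ⊓ W) ≤ V := inf_le_right.trans inf_le_left
    haveI : IsReduced (V : Scheme.{u}) := inferInstance
    haveI : IsReduced ((U ⊓ (V ⊓ W) : X.Opens) : Scheme.{u}) :=
      isReduced_of_isOpenImmersion (X.homOfLE hOV)
    have hη'O : X.fromSpecStalk x b ∈ U ⊓ (V ⊓ W) := ⟨hη'U, hη'V, hη'W⟩
    have hη'VW : X.fromSpecStalk x b ∈ V ⊓ W := ⟨hη'V, hη'W⟩
    haveI : IsDominant (IsOpenImmersion.lift (U ⊓ (V ⊓ W)).ι j (hjr _ hη'O)) := by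
      constructor
      intro w
      let z : Spec (CommRingCat.of (FractionRing (X.presheaf.stalk x))) :=
        (⟨⊥, Ideal.isPrime_bot⟩ : PrimeSpectrum (FractionRing (X.presheaf.stalk x)))
      have h1 : IsOpenImmersion.lift (U ⊓ (V ⊓ W)).ι j (hjr _ hη'O) z ⤳ w := by
        rw [← (U ⊓ (V ⊓ W)).ι.isOpenEmbedding.isInducing.specializes_iff]
        have h2 : (U ⊓ (V ⊓ W)).ι (IsOpenImmersion.lift (U ⊓ (V ⊓ W)).ι j (hjr _ hη'O) z) =
            X.fromSpecStalk x b := by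
          rw [← Scheme.Hom.comp_apply, hjO _ hη'O, hj]
        rw [h2]
        exact hη'v _ (hOV w.2)
      have h3 : ({IsOpenImmersion.lift (U ⊓ (V ⊓ W)).ι j (hjr _ hη'O) z} : Set _) ⊆
          Set.range (IsOpenImmersion.lift (U ⊓ (V ⊓ W)).ι j (hjr _ hη'O)) := by
        rw [Set.singleton_subset_iff]
        exact ⟨z, rfl⟩
      exact closure_mono h3 (specializes_iff_mem_closure.mp h1)
    refine ext_of_isDominant_of_isSeparated q ?_
      (IsOpenImmersion.lift (U ⊓ (V ⊓ W)).ι j (hjr _ hη'O)) ?_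
    · rw [Category.assoc, hf, Category.assoc, hf₂, ← Category.assoc, ← Category.assoc,
        Scheme.homOfLE_ι, Scheme.homOfLE_ι]
    · rw [← Category.assoc, hjle _ U hη'O hη'U inf_le_left, ← hφ1']
      rw [← Category.assoc, ← Category.assoc, hjle _ (V ⊓ W) hη'O hη'VW inf_le_right,
        hjle _ W hη'VW hη'W inf_le_right]
      change _ ≫ (show Spec (X.presheaf.stalk x) ⟶ Y from φ) = _
      rw [hφf₁, ← Category.assoc]
      congr 1
      rw [← cancel_mono W.ι, Category.assoc, Scheme.Opens.fromSpecStalkOfMem_ι, hjO W hη'W]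
  have hag : ∀ (O : X.Opens) (h1 : O ≤ U) (h2 : O ≤ V ⊓ W),
      X.homOfLE h1 ≫ f = X.homOfLE h2 ≫ (X.homOfLE (inf_le_right : V ⊓ W ≤ W) ≫ f₁) := by
    intro O h1 h2
    have h3 : O ≤ U ⊓ (V ⊓ W) := le_inf h1 h2
    rw [← X.homOfLE_homOfLE h3 inf_le_left, ← X.homOfLE_homOfLE h3 inf_le_right,
      Category.assoc, Category.assoc, hagree]
  -- glueing
  let Uf : ULift.{u} Bool → X.Opens := fun c => cond c.down U (V ⊓ W)
  let ff : ∀ c : ULift.{u} Bool, ((Uf c : X.Opens) : Scheme.{u}) ⟶ Y := fun c =>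
    match c with
    | ⟨true⟩ => f
    | ⟨false⟩ => X.homOfLE (inf_le_right : V ⊓ W ≤ W) ≫ f₁
  have hcompat : ∀ c d : ULift.{u} Bool,
      X.homOfLE (inf_le_left : Uf c ⊓ Uf d ≤ Uf c) ≫ ff c =
        X.homOfLE (inf_le_right : Uf c ⊓ Uf d ≤ Uf d) ≫ ff d := by
    rintro ⟨_ | _⟩ ⟨_ | _⟩
    · rfl
    · exact (hag _ inf_le_right inf_le_left).symm
    · exact hag _ inf_le_left inf_le_right
    · rfl
  obtain ⟨g, hg⟩ := Groth.Agent.Lib.Helper28.GlueOpens.exists_glue ff hcompat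
  refine ⟨⨆ c, Uf c, le_iSup Uf ⟨true⟩, (le_iSup Uf ⟨false⟩) ⟨hxV, hxW⟩, g, ?_, hg ⟨true⟩⟩
  apply Groth.Agent.Lib.Helper28.GlueOpens.hom_ext
  rintro ⟨_ | _⟩
  · rw [← Category.assoc, hg ⟨false⟩, Scheme.homOfLE_ι_assoc]
    exact hf₂
  · rw [← Category.assoc, hg ⟨true⟩, Scheme.homOfLE_ι_assoc]
    exact hf

end Groth.Agent.Lib.Helper28.ValExt
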