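import Groth.Agent.Lib.Lead.AffImgReduce

/-! # Integral open neighbourhoods of a point whose local ring is a domain (helper28, S9701) -/

set_option autoImplicit false
universe u
open CategoryTheory CategoryTheory.Limits AlgebraicGeometry TopologicalSpace

namespace Groth.Agent.Lib.Helper28.ValExt

/-- If the local ring at `x` is a domain, then `x` lies on exactly one irreducible component. -/
theorem component_unique {X : Scheme.{u}} (x : X) (hdom : IsDomain (X.presheaf.stalk x))
    {Z₁ Z₂ : Set X} (h₁ : Z₁ ∈ irreducibleComponents X) (h₂ : Z₂ ∈ irreducibleComponents X)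
    (hx₁ : x ∈ Z₁) (hx₂ : x ∈ Z₂) : Z₁ = Z₂ := by
  -- the image of the generic point of the local ring
  let b : PrimeSpectrum (X.presheaf.stalk x) := ⟨⊥, Ideal.isPrime_bot⟩
  have key : ∀ Z ∈ irreducibleComponents X, x ∈ Z →
      Z = closure {X.fromSpecStalk x b} := by
    intro Z hZ hxZ
    have hZc : IsClosed Z := isClosed_of_mem_irreducibleComponents Z hZ
    have hgen := hZ.1.isGenericPoint_genericPoint hZc
    have hcl : closure {hZ.1.genericPoint} = Z := hgen.def
    have hsp : hZ.1.genericPoint ⤳ x := by
      rw [specializes_iff_mem_closure, hcl]; exact hxZ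
    have hmem : hZ.1.genericPoint ∈ Set.range (X.fromSpecStalk x) := by
      rw [Scheme.range_fromSpecStalk]; exact hsp
    obtain ⟨q, hq⟩ := hmem
    have hbq : b ⤳ q := by
      rw [← PrimeSpectrum.le_iff_specializes]
      exact bot_le
    have h1 : X.fromSpecStalk x b ⤳ hZ.1.genericPoint := by
      rw [← hq]
      exact hbq.map (X.fromSpecStalk x).continuous
    have h2 := Groth.Agent.Lib.Lead.AffImgReduce.eq_of_specializes_generic
      (ξ := hZ.1.genericPoint) (by rw [hcl]; exact hZ) h1
    rw [h2, hcl]
  rw [key Z₁ h₁ hx₁, key Z₂ h₂ hx₂]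

/-- A point whose local ring is a domain has an integral open neighbourhood, if the scheme is
reduced with finitely many irreducible components. -/
theorem exists_integral_nhd_of_isReduced {X : Scheme.{u}} [IsReduced X]
    (hfin : (irreducibleComponents X).Finite) (x : X) (hdom : IsDomain (X.presheaf.stalk x)) :
    ∃ V : X.Opens, x ∈ V ∧ IsIntegral V := by
  let 𝒵 : Set (Set X) := {Z ∈ irreducibleComponents X | x ∉ Z}
  have h𝒵fin : 𝒵.Finite := hfin.subset fun Z hZ => hZ.1
  have hcl : IsClosed (⋃₀ 𝒵) := by
    rw [Set.sUnion_eq_biUnion]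
    exact h𝒵fin.isClosed_biUnion fun Z hZ => isClosed_of_mem_irreducibleComponents Z hZ.1
  let V : X.Opens := ⟨(⋃₀ 𝒵)ᶜ, hcl.isOpen_compl⟩
  have hxV : x ∈ V := by
    change x ∈ (⋃₀ 𝒵)ᶜ
    rintro ⟨Z, hZ, hxZ⟩
    exact hZ.2 hxZ
  have hsub : (V : Set X) ⊆ irreducibleComponent x := by
    intro v hv
    have h1 : x ∈ irreducibleComponent v := by
      by_contra hne
      exact hv ⟨irreducibleComponent v, ⟨irreducibleComponent_mem_irreducibleComponents v, hne⟩,
        mem_irreducibleComponent⟩
    rw [component_unique x hdom (irreducibleComponent_mem_irreducibleComponents x)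
      (irreducibleComponent_mem_irreducibleComponents v) mem_irreducibleComponent h1]
    exact mem_irreducibleComponent
  have hirr : IsIrreducible (V : Set X) :=
    ⟨⟨x, hxV⟩, (isIrreducible_irreducibleComponent (x := x)).2.open_subset V.isOpen hsub⟩
  haveI : IrreducibleSpace (V : Scheme.{u}) := Subtype.irreducibleSpace hirr
  haveI : IsReduced (V : Scheme.{u}) := isReduced_of_isOpenImmersion V.ι
  exact ⟨V, hxV, isIntegral_of_irreducibleSpace_of_isReduced _⟩

/-- A point of a locally Noetherian scheme whose local ring is a domain has an integral open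
neighbourhood. -/
theorem exists_integral_nhd_of_isLocallyNoetherian {X : Scheme.{u}} [IsLocallyNoetherian X]
    (x : X) (hdom : IsDomain (X.presheaf.stalk x)) :
    ∃ V : X.Opens, x ∈ V ∧ IsIntegral V := by
  obtain ⟨U, hxU, hU, hinj⟩ := X.exists_germ_injective x
  haveI : IsDomain Γ(X, U) := Function.Injective.isDomain _ hinj
  haveI : Nonempty (U : Scheme.{u}) := ⟨⟨x, hxU⟩⟩
  haveI : IsIntegral (Spec Γ(X, U)) := inferInstance
  exact ⟨U, hxU, isIntegral_of_isOpenImmersion hU.isoSpec.hom⟩

theorem exists_integral_nhd {X : Scheme.{u}} (x : X)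
    (hX : (IsReduced X ∧ (irreducibleComponents X).Finite) ∨ IsNoetherian X)
    (hdom : IsDomain (X.presheaf.stalk x)) : ∃ V : X.Opens, x ∈ V ∧ IsIntegral V := by
  rcases hX with ⟨h1, h2⟩ | h
  · exact exists_integral_nhd_of_isReduced h2 x hdom
  · exact exists_integral_nhd_of_isLocallyNoetherian x hdom

end Groth.Agent.Lib.Helper28.ValExt
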